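import Cfsg.Agent.Lib.Trans3.Spider.Data.OM.F0

set_option autoImplicit false
set_option maxRecDepth 100000

namespace CfsgLib.Trans3.Spider.OM

open CfsgLib.InvChar.Coset

theorem facts_ok : ∀ j < 13, cert.chkRun 128 (j * 128) (cert.just.get j) = true := by
  intro j hj
  rcases Nat.lt_or_ge j 13 with h0 | h0
  · obtain ⟨i, rfl⟩ : ∃ i, j = 0 + i := ⟨j - 0, by omega⟩
    exact chkBlocks_get (D := cert) 13 0 chk_facts0 i (by omega)
  omega

/-- the goal word -/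
def goal : List ℕ := [4, 0, 1, 5, 7, 2, 6, 3, 0, 1, 5, 7, 2, 6, 3, 0, 1, 5, 7, 2, 6, 3, 0, 1, 5, 7, 2, 6, 3, 0, 1, 5, 7, 2, 6, 3, 0, 1, 5, 7, 2, 6, 3, 0, 1, 5, 7, 2, 6, 3, 0, 1, 5, 7, 2, 6, 3, 0, 1, 5, 7, 2, 6, 3, 4, 0, 1, 5, 7, 2, 6, 3, 0, 1, 5, 7, 2, 6, 3, 0, 1, 5, 7, 2, 6, 3, 0, 1, 5, 7, 2, 6, 3, 0, 1, 5, 7, 2, 6, 3, 0, 1, 5, 7, 2, 6, 3, 0, 1, 5, 7, 2, 6, 3, 0, 1, 5, 7, 2, 6, 3, 0, 1, 5, 7, 2, 6, 3, 4, 0, 1, 5, 7, 2, 6, 3, 0, 1, 5, 7, 2, 6, 3, 0, 1, 5, 7, 2, 6, 3, 0, 1, 5, 7, 2, 6, 3, 0, 1, 5, 7, 2, 6, 3, 0, 1, 5, 7, 2, 6, 3, 0, 1, 5, 7, 2, 6, 3, 0, 1, 5, 7, 2, 6, 3, 0, 1, 5, 7, 2, 6, 3]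

theorem goal_ok : cert.chkGoal 1572 192 0x1ba001bc001b9001bd001bb001b8001b7001ba001bc001b9001bd001bb001b8001b7001ba001bc001b9001bd001bb001b8001b7001ba001bc001b9001bd001bb001b8001b7001ba001bc001b9001bd001bb001b8001b7001ba001bc001b9001bd001bb001b8001b7001ba001bc001b9001bd001bb001b8001b7001ba001bc001b9001bd001bb001b8001b7001ba001bc001b9001bd001bb001b8001b70000000001001cc00002001d5001d30000300004001e2001e4001e100006001fd001f90000b0020b00218002150021900011002420001c0025e00260002810002f002b4002db0004d0035100352003a4003a7000a50047700105004d80013e0053d0016f005c0005bd001a2005ea005ec005e9005ed005eb001a9005fb005fc005fe001af0060e0060c0060b0060a001b6006220061f00623006210061e0061d00620001b60060d001af005ff005fd001a9001a2005bf005c1005be001900016e0053c0053b004da00106004780047a000d3000a40007d0034d0034f0034c00049002d7000380002c0027e0025b0025a0024500016000100000d0020600209001fa0000800005001e000004001d9001dc001d8001dd001db00003001d0001d1001d400002001cd001cb001c9001c800001001c4001c2001c5001c3001c1001c000000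 goal = true := by decide +kernel

theorem nf_le : cert.nf ≤ 13 * 128 := by decide +kernel

end CfsgLib.Trans3.Spider.OM
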